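import Groth.Agent.FlatMorOne.GoodLocus
import Groth.Agent.QCohMod.SupportPullback
import Groth.Agent.Misc3Fitt.Local
import Groth.Agent.S6284
import Groth.Agent.Pi1Eff.Pieces

/-!
# The locus of the base over which a map onto a flat module is an isomorphism
-/

set_option autoImplicit false
set_option linter.style.haveILetI false

universe u

open CategoryTheory CategoryTheory.Limits AlgebraicGeometry TensorProduct Topology
open Groth.QCohMod Groth.Flatmor4 Groth.FlatMorOne

namespace Groth.IsoOpen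

/-- The complement of the support of a finitely presented module is a finite union of basic opens. -/
theorem exists_finset_support {B : Type u} [CommRing B] (M : Type u) [AddCommGroup M] [Module B M]
    [Module.FinitePresentation B M] :
    ∃ s : Finset B, ∀ P : PrimeSpectrum B, P ∉ Module.support B M ↔ ∃ g ∈ s, g ∉ P.asIdeal := by
  obtain ⟨s, hs⟩ := Groth.Misc3Fitt.ideal_fg (R := B) (M := M) 0
  refine ⟨s, fun P => ?_⟩
  rw [Module.notMem_support_iff]
  have h1 : (¬ Fitt.ideal B M 0 ≤ P.asIdeal) ↔ ∃ g ∈ s, g ∉ P.asIdeal := by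
    rw [← hs, Submodule.span_le, Set.not_subset]
    rfl
  rw [← h1, Groth.Misc3Fitt.not_le_prime_iff_exists_span_atPrime P.asIdeal]
  constructor
  · exact fun h => ⟨Fin.elim0, Subsingleton.elim _ _⟩
  · rintro ⟨g, hg⟩
    rw [Set.range_eq_empty, Submodule.span_empty] at hg
    exact (Submodule.subsingleton_iff _).1 (subsingleton_of_bot_eq_top hg)

variable {X S : Scheme.{u}} {F G : X.Modules} (u : F ⟶ G)

/-- The points at which the map is bijective on stalks. -/
def bijSet : Set X := {x | x ∉ CohB1.support (cokernel u) ∧ Function.Injective ((stalk x).map u)}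

theorem notMem_support_iff [G.IsQuasicoherent] {U : X.Opens} (hU : IsAffineOpen U) (x : X) (hx : x ∈ U) :
    x ∉ CohB1.support G ↔ hU.primeIdealOf ⟨x, hx⟩ ∉ Module.support Γ(X, U) Γ(G, U) := by
  let _ := Groth.QCohMod.stalkModule G x hx
  have := Groth.QCohMod.isLocalizedModule_germ G hU x hx
  rw [Module.notMem_support_iff]
  refine not_not.trans ?_
  exact (IsLocalizedModule.linearEquiv (hU.primeIdealOf ⟨x, hx⟩).asIdeal.primeCompl
    (Groth.QCohMod.germₗ G x hx) (LocalizedModule.mkLinearMap _ Γ(G, U))).toEquiv.subsingleton_congr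

/-- A morphism is surjective on stalks off the support of its cokernel. -/
theorem surjective_stalk [F.IsQuasicoherent] [G.IsQuasicoherent] (x : X)
    (h : x ∉ CohB1.support (cokernel u)) : Function.Surjective ((stalk x).map u) := by
  show Function.Surjective (Groth.OmegaSheaf.stalkApp u x)
  intro t
  obtain ⟨U, hU, hx⟩ := exists_affine_mem x
  obtain ⟨a, m, ha, hm⟩ := exists_smul_germ_eq G hU x hx t
  obtain ⟨c, hc, hcm⟩ := exists_smul_eq_zero_of_germ_eq_zero (cokernel u) hU x hx
    (appₗ (cokernel.π u) U m) (@Subsingleton.elim _ (not_not.mp h) _ _)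
  obtain ⟨w, hw⟩ := ((exact_appₗ_cokernel u hU) (c • m)).mp (by rw [map_smul]; exact hcm)
  obtain ⟨v, hv⟩ := ((Scheme.mem_basicOpen X c x hx).mp hc).mul ((Scheme.mem_basicOpen X a x hx).mp ha)
  refine ⟨(↑v⁻¹ : X.presheaf.stalk x) • germ F x hx w, ?_⟩
  rw [Groth.OmegaSheaf.stalk_map_smul, Groth.OmegaSheaf.stalkApp_germ]
  show (↑v⁻¹ : X.presheaf.stalk x) • germ G x hx (appₗ u U w) = t
  rw [hw, germ_smul, ← hm, ← mul_smul, ← mul_smul, mul_assoc, ← hv, Units.inv_mul, one_smul]

/-- Off the support of the cokernel a morphism is surjective on sections over affine opens. -/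
theorem surjective_app [F.IsQuasicoherent] [G.IsQuasicoherent] {U : X.Opens} (hU : IsAffineOpen U)
    (h : ∀ x ∈ U, x ∉ CohB1.support (cokernel u)) : Function.Surjective (appₗ u U) := fun m =>
  ((exact_appₗ_cokernel u hU) m).mp
    (TopCat.Presheaf.section_ext ⟨(cokernel u : X.Modules).presheaf, (cokernel u : X.Modules).isSheaf⟩ U _ _
      fun x hx => @Subsingleton.elim _ (not_not.mp (h x hx)) _ _)

/-- The kernel on an affine open off the support of the cokernel is finitely presented. -/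
theorem finitePresentation_ker [F.IsQuasicoherent] [G.IsQuasicoherent] (f : X ⟶ S)
    [LocallyOfFinitePresentation f] (hF : CohB1.IsFP F) (hG : CohB1.IsFP G)
    (hGfl : FlatMod.IsFlatOver f G) {V : S.Opens} (hV : IsAffineOpen V) {U : X.Opens} (hU : IsAffineOpen U)
    (e : U ≤ f ⁻¹ᵁ V) (h : ∀ x ∈ U, x ∉ CohB1.support (cokernel u)) :
    Module.FinitePresentation Γ(X, U) (LinearMap.ker (appₗ u U)) := by
  letI := (f.appLE V U e).hom.toAlgebra
  letI := sectionModule f G e
  haveI : IsScalarTower Γ(S, V) Γ(X, U) Γ(G, U) := .of_algebraMap_smul fun _ _ => rfl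
  have : Algebra.FinitePresentation Γ(S, V) Γ(X, U) := f.finitePresentation_appLE hV hU e
  have := Groth.PropsBasic.FPSections.finitePresentation_sections F hF hU
  have := Groth.PropsBasic.FPSections.finitePresentation_sections G hG hU
  have : Module.Flat Γ(S, V) Γ(G, U) := (flat_sections_iff f G hU hV e).mpr fun y _ => hGfl y
  exact finitePresentation_ker_of_flat Γ(S, V) (appₗ u U) (surjective_app u hU h)

theorem injective_iff_notMem_support [F.IsQuasicoherent] [G.IsQuasicoherent] {U : X.Opens}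
    (hU : IsAffineOpen U) (x : X) (hx : x ∈ U) :
    Function.Injective ((stalk x).map u) ↔
      hU.primeIdealOf ⟨x, hx⟩ ∉ Module.support Γ(X, U) (LinearMap.ker (appₗ u U)) := by
  rw [injective_stalk_iff u hU x hx, Module.notMem_support_iff']
  constructor
  · intro h m
    obtain ⟨a, ha, ham⟩ := h m.1 m.2
    exact ⟨a, (mem_basicOpen_iff_notMem_primeIdealOf hU a x hx).mp ha, Subtype.ext ham⟩
  · intro h m hm
    obtain ⟨a, ha, ham⟩ := h ⟨m, hm⟩
    exact ⟨a, (mem_basicOpen_iff_notMem_primeIdealOf hU a x hx).mpr ha, congrArg Subtype.val ham⟩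

/-- Over an affine open of the base the bijectivity locus is a finite union of affine opens. -/
theorem exists_finite_affine_cover [F.IsQuasicoherent] [G.IsQuasicoherent] (f : X ⟶ S)
    [LocallyOfFinitePresentation f] (hF : CohB1.IsFP F) (hG : CohB1.IsFP G)
    (hGfl : FlatMod.IsFlatOver f G) {V : S.Opens} (hV : IsAffineOpen V) {W : X.Opens} (hW : IsAffineOpen W)
    (e : W ≤ f ⁻¹ᵁ V) :
    IsOpen (bijSet u ∩ W) ∧ IsCompact (bijSet u ∩ W) := by
  classical
  have := finitePresentation_sections_cokernel u hG hF hW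
  obtain ⟨s, hs⟩ := exists_finset_support (B := Γ(X, W)) Γ((cokernel u : X.Modules), W)
  have hQ : ∀ (x : X) (hx : x ∈ W), x ∉ CohB1.support (cokernel u) ↔ ∃ g ∈ s, x ∈ X.basicOpen g := by
    intro x hx
    rw [notMem_support_iff hW x hx, hs]
    simp only [mem_basicOpen_iff_notMem_primeIdealOf hW _ x hx]
  have hD : ∀ g ∈ s, ∀ x ∈ X.basicOpen g, x ∉ CohB1.support (cokernel u) := fun g hg x hx =>
    (hQ x (X.basicOpen_le g hx)).mpr ⟨g, hg, hx⟩
  have hfp := fun g (hg : g ∈ s) => finitePresentation_ker u f hF hG hGfl hV (hW.basicOpen g)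
    ((X.basicOpen_le g).trans e) (hD g hg)
  choose t ht using fun g (hg : g ∈ s) =>
    @exists_finset_support Γ(X, X.basicOpen g) _ (LinearMap.ker (appₗ u (X.basicOpen g))) _ _ (hfp g hg)
  have hK : ∀ g (hg : g ∈ s) (x : X), x ∈ X.basicOpen g →
      (Function.Injective ((stalk x).map u) ↔ ∃ a ∈ t g hg, x ∈ X.basicOpen a) := by
    intro g hg x hx
    rw [injective_iff_notMem_support u (hW.basicOpen g) x hx, ht g hg]
    simp only [mem_basicOpen_iff_notMem_primeIdealOf (hW.basicOpen g) _ x hx]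
  have heq : bijSet u ∩ W = ⋃ g : s, ⋃ a : t g.1 g.2, (X.basicOpen a.1 : Set X) := by
    ext x
    simp only [Set.mem_inter_iff, Set.mem_iUnion, SetLike.mem_coe]
    constructor
    · rintro ⟨⟨h1, h2⟩, hxW⟩
      obtain ⟨g, hg, hxg⟩ := (hQ x hxW).mp h1
      obtain ⟨a, ha, hxa⟩ := (hK g hg x hxg).mp h2
      exact ⟨⟨g, hg⟩, ⟨a, ha⟩, hxa⟩
    · rintro ⟨⟨g, hg⟩, ⟨a, ha⟩, hxa⟩
      have hxg : x ∈ X.basicOpen g := X.basicOpen_le a hxa
      exact ⟨⟨hD g hg x hxg, (hK g hg x hxg).mpr ⟨a, ha, hxa⟩⟩, X.basicOpen_le g hxg⟩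
  rw [heq]
  exact ⟨isOpen_iUnion fun g => isOpen_iUnion fun a => (X.basicOpen a.1).2,
    isCompact_iUnion fun g => isCompact_iUnion fun a => ((hW.basicOpen g.1).basicOpen a.1).isCompact⟩

/-- Injectivity with flat target descends along a change of base. -/
theorem injective_stalk_of_baseChange [F.IsQuasicoherent] [G.IsQuasicoherent] {P T : Scheme.{u}}
    {f : X ⟶ S} {j : T ⟶ S} {p : P ⟶ T} {q : P ⟶ X} (H : IsPullback q p f j)
    [LocallyOfFinitePresentation f] (hF : CohB1.IsFP F) (hG : CohB1.IsFP G)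
    (hGfl : FlatMod.IsFlatOver f G) (hQo : IsClosed (CohB1.support (cokernel u))) (x : P)
    (hQ : q x ∉ CohB1.support (cokernel u))
    (hx : Function.Injective ((stalk x).map ((Scheme.Modules.pullback q).map u))) :
    Function.Injective ((stalk (q x)).map u) := by
  obtain ⟨_, ⟨V : S.Opens, hV, rfl⟩, hxV, -⟩ :=
    S.isBasis_affineOpens.exists_subset_of_mem_open (Set.mem_univ (f (q x))) isOpen_univ
  obtain ⟨_, ⟨U : X.Opens, hU, rfl⟩, hxU, hle⟩ :=
    X.isBasis_affineOpens.exists_subset_of_mem_open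
      (show q x ∈ (f ⁻¹ᵁ V : Set X) ∩ (CohB1.support (cokernel u))ᶜ from ⟨hxV, hQ⟩)
      ((f ⁻¹ᵁ V).2.inter hQo.isOpen_compl)
  have eU : U ≤ f ⁻¹ᵁ V := fun y hy => (hle hy).1
  obtain ⟨_, ⟨T' : T.Opens, hT, rfl⟩, hxT, eT⟩ :=
    T.isBasis_affineOpens.exists_subset_of_mem_open (show p x ∈ j ⁻¹ᵁ V by
      show j (p x) ∈ V
      rw [← Scheme.Hom.comp_apply, ← H.w, Scheme.Hom.comp_apply]; exact hxV) (j ⁻¹ᵁ V).2
  obtain ⟨hW, hpo⟩ := exists_chart_of H hV hU eU hT eT
  let W := q ⁻¹ᵁ U ⊓ p ⁻¹ᵁ T'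
  have hxW : x ∈ W := ⟨hxU, hxT⟩
  have := finitePresentation_ker u f hF hG hGfl hV hU eU fun y hy => (hle hy).2
  letI := (f.appLE V U eU).hom.toAlgebra
  letI := (j.appLE V T' eT).hom.toAlgebra
  letI := sectionsAlg q (inf_le_left : W ≤ q ⁻¹ᵁ U)
  letI := (p.appLE T' W inf_le_right).hom.toAlgebra
  letI : Algebra Γ(S, V) Γ(P, W) := ((q.appLE U W inf_le_left).hom.comp (f.appLE V U eU).hom).toAlgebra
  haveI : IsScalarTower Γ(S, V) Γ(X, U) Γ(P, W) := .of_algebraMap_eq' rfl
  haveI : IsScalarTower Γ(S, V) Γ(T, T') Γ(P, W) := .of_algebraMap_eq fun a => congr($(hpo.w) a)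
  haveI : Algebra.IsPushout Γ(S, V) Γ(X, U) Γ(T, T') Γ(P, W) := CommRingCat.isPushout_iff_isPushout.mp hpo
  haveI : Algebra.IsPushout Γ(S, V) Γ(T, T') Γ(X, U) Γ(P, W) := .symm inferInstance
  letI := sectionModule f G eU
  haveI : IsScalarTower Γ(S, V) Γ(X, U) Γ(G, U) := .of_algebraMap_smul fun _ _ => rfl
  have : Module.Flat Γ(S, V) Γ(G, U) := (flat_sections_iff f G hU hV eU).mpr fun y _ => hGfl y
  let φ := appₗ u U
  have hinj : Function.Injective ((LinearMap.ker φ).subtype.lTensor Γ(P, W)) :=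
    baseChange_ker_injective Γ(S, V) Γ(T, T') Γ(P, W) φ (surjective_app u hU fun y hy => (hle hy).2)
  let E := pullSecEquiv q F (inf_le_left : W ≤ q ⁻¹ᵁ U) hU hW
  have hkill : ∀ k : LinearMap.ker φ, ∃ a : Γ(P, W), a ∉ (hW.primeIdealOf ⟨x, hxW⟩).asIdeal ∧
      a ⊗ₜ[Γ(X, U)] k = 0 := by
    intro k
    obtain ⟨a, ha, ham⟩ := (injective_stalk_iff _ hW x hxW).mp hx
      (Groth.LocFree.pullSecₗ q F (inf_le_left : W ≤ q ⁻¹ᵁ U) k.1) (by
        rw [LinearMap.mem_ker, appₗ_pullback, show appₗ u U k.1 = 0 from k.2, map_zero])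
    refine ⟨a, (mem_basicOpen_iff_notMem_primeIdealOf hW a x hxW).mp ha, hinj ?_⟩
    rw [LinearMap.lTensor_tmul, map_zero]
    refine E.injective ?_
    rw [map_zero]
    exact ham
  have hP : hW.primeIdealOf ⟨x, hxW⟩ ∉ Module.support Γ(P, W) (Γ(P, W) ⊗[Γ(X, U)] LinearMap.ker φ) := by
    rw [Module.notMem_support_iff']
    intro z
    induction z using TensorProduct.induction_on with
    | zero => exact ⟨1, (hW.primeIdealOf _).isPrime.one_notMem, smul_zero _⟩
    | tmul c k =>
      obtain ⟨a, ha, hak⟩ := hkill k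
      refine ⟨a, ha, ?_⟩
      rw [TensorProduct.smul_tmul', smul_eq_mul, mul_comm, ← smul_eq_mul, ← TensorProduct.smul_tmul',
        hak, smul_zero]
    | add y z hy hz =>
      obtain ⟨a, ha, hay⟩ := hy
      obtain ⟨b, hb, hbz⟩ := hz
      exact ⟨a * b, fun h => ((hW.primeIdealOf _).isPrime.mem_or_mem h).elim ha hb,
        by rw [smul_add, mul_comm, mul_smul, hay, smul_zero, zero_add, mul_comm, mul_smul, hbz, smul_zero]⟩
  rw [Groth.Agent.S6284.result, Set.mem_preimage, Module.notMem_support_iff'] at hP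
  refine (injective_stalk_iff u hU (q x) hxU).mpr fun m hm => ?_
  obtain ⟨b, hb, hbm⟩ := hP ⟨m, hm⟩
  refine ⟨b, ?_, congrArg Subtype.val hbm⟩
  have hb' : x ∈ P.basicOpen (q.appLE U W inf_le_left b) :=
    (mem_basicOpen_iff_notMem_primeIdealOf hW _ x hxW).mpr hb
  rw [Scheme.basicOpen_appLE] at hb'
  exact hb'.2

/-- Bijective stalks give an isomorphism, and conversely. -/
theorem isIso_iff [F.IsQuasicoherent] [G.IsQuasicoherent] :
    IsIso u ↔ ∀ x, x ∈ bijSet u := by
  constructor
  · intro h x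
    refine ⟨fun hx => hx ?_, ((ConcreteCategory.isIso_iff_bijective _).mp
      (inferInstance : IsIso ((stalk x).map u))).1⟩
    exact AddCommGrpCat.subsingleton_of_isZero ((stalk x).map_isZero
      (IsZero.of_iso (isZero_zero _) (cokernel.ofEpi u)))
  · intro h
    exact isIso_of_stalk u fun x => (ConcreteCategory.isIso_iff_bijective _).mpr
      ⟨(h x).2, surjective_stalk u x (h x).1⟩

theorem isIso_pullback_ι [F.IsQuasicoherent] [G.IsQuasicoherent] (hQf : CohB1.IsFT (cokernel u))
    (O : X.Opens) (h : ∀ x ∈ O, x ∈ bijSet u) : IsIso ((Scheme.Modules.pullback O.ι).map u) := by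
  rw [isIso_iff]
  refine fun x => ⟨?_, (injective_stalk_pullback_iff O.ι u x).mpr (h _ x.2).2⟩
  rw [show CohB1.support (cokernel ((Scheme.Modules.pullback O.ι).map u)) =
    CohB1.support ((Scheme.Modules.pullback O.ι).obj (cokernel u)) from
      Set.ext fun y => not_congr ((stalk y).mapIso
        (PreservesCokernel.iso (Scheme.Modules.pullback O.ι) u)).addCommGroupIsoToAddEquiv.toEquiv.subsingleton_congr.symm,
    support_pullback O.ι _ hQf]
  exact (h _ x.2).1

theorem compl_cons {Z : Type*} [TopologicalSpace Z] {s : Set Z} (hs : IsLocallyConstructible s) :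
    IsLocallyConstructible sᶜ := fun x =>
  have ⟨U, h1, h2, h3⟩ := hs x
  ⟨U, h1, h2, h3.compl⟩

/-- The open subscheme of the base over which a map onto a flat module becomes an isomorphism. -/
theorem exists_open (f : X ⟶ S) [IsProper f] [LocallyOfFinitePresentation f] [F.IsQuasicoherent]
    [G.IsQuasicoherent] (hF : CohB1.IsFP F) (hG : CohB1.IsFP G) (hGfl : FlatMod.IsFlatOver f G)
    (hQf : CohB1.IsFT (cokernel u)) (hQo : IsClosed (CohB1.support (cokernel u))) :
    ∃ U : S.Opens, QuasiCompact U.ι ∧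
      ∀ (T : Scheme.{u}) (t : T ⟶ S),
        IsIso ((Scheme.Modules.pullback (pullback.fst f t)).map u) ↔ Set.range t.base ⊆ (U : Set S) := by
  have hloc : ∀ x : X, ∃ W : X.Opens, x ∈ W ∧ IsAffineOpen W ∧
      IsOpen (bijSet u ∩ W) ∧ IsCompact (bijSet u ∩ W) := by
    intro x
    obtain ⟨V, hV, hxV, -⟩ := exists_isAffineOpen_mem_and_subset (U := (⊤ : S.Opens)) (x := f x) trivial
    obtain ⟨W, hW, hxW, hle⟩ := exists_isAffineOpen_mem_and_subset (U := f ⁻¹ᵁ V) (x := x) hxV
    exact ⟨W, hxW, hW, exists_finite_affine_cover u f hF hG hGfl hV hW hle⟩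
  choose W hxW hW hWo hWc using hloc
  have hopen : IsOpen (bijSet u) := isOpen_iff_forall_mem_open.mpr fun x hx =>
    ⟨bijSet u ∩ W x, Set.inter_subset_left, hWo x, hx, hxW x⟩
  have hcons : IsLocallyConstructible (bijSet u) := by
    refine .of_isOpenCover (U := W) (TopologicalSpace.IsOpenCover.mk (top_unique fun x _ =>
      TopologicalSpace.Opens.mem_iSup.mpr ⟨x, hxW x⟩)) fun i => ?_
    have : IsAffine (W i).toScheme := hW i
    have ho : IsOpen ((W i).ι ⁻¹' bijSet u) := hopen.preimage (W i).ι.continuous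
    have hc : IsCompact ((W i).ι ⁻¹' bijSet u) := by
      rw [(W i).ι.isOpenEmbedding.isInducing.isCompact_iff, Set.image_preimage_eq_inter_range,
        Scheme.Opens.range_ι]
      exact hWc i
    exact (hc.isRetrocompact (X := (W i).toScheme) ho).isLocallyConstructible ho
  let U : S.Opens := ⟨(f '' (bijSet u)ᶜ)ᶜ, (f.isClosedMap _ hopen.isClosed_compl).isOpen_compl⟩
  refine ⟨U, ?_, fun T t => ?_⟩
  · have hU : IsLocallyConstructible (U : Set S) :=
      compl_cons (f.isLocallyConstructible_image (compl_cons hcons))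
    rw [quasiCompact_iff_forall_isAffineOpen]
    intro V hV
    rw [U.ι.isOpenEmbedding.isInducing.isCompact_iff, Scheme.Hom.coe_preimage, Set.image_preimage_eq_inter_range,
      Scheme.Opens.range_ι]
    have : CompactSpace V := isCompact_iff_compactSpace.mp hV.isCompact
    have : IsAffine V.toScheme := hV
    have h1 := (hU.preimage_of_isOpenEmbedding V.ι.isOpenEmbedding).isConstructible (X := V.toScheme)
    have h2 := (Groth.Pi1EtDesc.isCompact_of_isConstructible h1).image V.ι.continuous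
    rwa [Set.image_preimage_eq_inter_range, Scheme.Opens.range_ι, Set.inter_comm] at h2
  · let q := pullback.fst f t
    let p := pullback.snd f t
    constructor
    · rintro hiso _ ⟨s, rfl⟩ ⟨x, hx, hxs⟩
      obtain ⟨x', hx', -⟩ := Scheme.Pullback.exists_preimage_pullback (f := f) (g := t) x s hxs
      obtain ⟨h1, h2⟩ := (isIso_iff ((Scheme.Modules.pullback q).map u)).mp hiso x'
      have hQ : q x' ∉ CohB1.support (cokernel u) := by
        rw [show CohB1.support (cokernel ((Scheme.Modules.pullback q).map u)) =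
          CohB1.support ((Scheme.Modules.pullback q).obj (cokernel u)) from
            Set.ext fun y => not_congr ((stalk y).mapIso
              (PreservesCokernel.iso (Scheme.Modules.pullback q) u)).addCommGroupIsoToAddEquiv.toEquiv.subsingleton_congr.symm,
          support_pullback q _ hQf] at h1
        exact h1
      refine hx ?_
      rw [← show q x' = x from hx']
      exact ⟨hQ, injective_stalk_of_baseChange u (IsPullback.of_hasPullback f t) hF hG hGfl hQo x' hQ h2⟩
    · intro hr
      let O : X.Opens := ⟨bijSet u, hopen⟩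
      have hk : Set.range q ⊆ Set.range O.ι := by
        rw [Scheme.Opens.range_ι]
        rintro _ ⟨y, rfl⟩
        by_contra hn
        refine hr ⟨p y, rfl⟩ ⟨q y, hn, ?_⟩
        rw [← Scheme.Hom.comp_apply, pullback.condition, Scheme.Hom.comp_apply]
      let l := IsOpenImmersion.lift O.ι q hk
      have := isIso_pullback_ι u hQf O fun x hx => hx
      have h1 : IsIso ((Scheme.Modules.pullback O.ι ⋙ Scheme.Modules.pullback l).map u) := by
        rw [Functor.comp_map]; infer_instance
      rw [NatIso.isIso_map_iff (Scheme.Modules.pullbackComp l O.ι)] at h1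
      show IsIso ((Scheme.Modules.pullback q).map u)
      rw [← IsOpenImmersion.lift_fac O.ι q hk]
      exact h1

end Groth.IsoOpen
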